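import Cfsg.Agent.H555.S8.SocTwo
import Cfsg.Agent.CpQuot.Congr

/-!
# S4908: the socle of an almost simple group, without prime power degrees (helper555)

* **`soc1_of`** : `D` a set of divisors of `N` without prime powers, all `≠ 1` at least `B`; `q` a prime with `q ∤ N`,
  `2 q ≤ B` : the sporadic case implies `Soc1 D X`.
-/

set_option autoImplicit false

open Cfsg

namespace Cfsg.Agent.H555.S8

open Cfsg.Agent.H504.AN Cfsg.Agent.H704.S8
open Cfsg.Agent.H691.AN (AlmostSimple)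

universe u v

theorem sporadic_congr {X Y : Type*} [Group X] [Group Y] (e : X ≃* Y) (h : IsSporadicGroup X) : IsSporadicGroup Y := by
  revert h
  simp only [IsSporadicGroup, Spor.IsoM11, Spor.IsoM12,
    Spor.IsoM22, Spor.IsoM23, Spor.IsoM24, Spor.IsoJ1, Spor.IsoJ2, Spor.IsoJ3, Spor.IsoJ4, Spor.IsoCo1, Spor.IsoCo2,
    Spor.IsoCo3, Spor.IsoMcL, Spor.IsoHS, Spor.IsoSuz, Spor.IsoHe, Spor.IsoRu, Spor.IsoON, Spor.IsoLy, Spor.IsoFi22,
    Spor.IsoFi23, Spor.IsoFi24', Spor.IsoHN, Spor.IsoTh, Spor.IsoB, Spor.IsoM, Cfsg.Agent.CpQuot.Congr.iso_iff e]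
  exact id

/-- what is known of the socle `S` -/
structure Hyp1 (N B : ℕ) (S : Type u) [Group S] : Prop where
  mul : ∀ {d : ℕ}, d ∈ charDegrees S → d ≠ 1 → ∃ c : ℕ, c ∣ Nat.card (Out S) ∧ B ≤ c * d
  ext : ∀ α : IrrCharacter S, charDegree (α : S → ℂ) ≠ 1 →
    (∃ ψ : IrrCharacter (MulAut S), ∀ s : S, (ψ : MulAut S → ℂ) (MulAut.conj s) = (α : S → ℂ) s) →
    ¬ IsPrimePow (charDegree (α : S → ℂ))
  pr : ∀ p : ℕ, p.Prime → p ∣ Nat.card S → p ∣ N

section

variable {N B : ℕ} {S : Type u} [Group S] [Finite S]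

theorem Hyp1.kill (H : Hyp1 N B S) (hout : Nat.card (Out S) ≤ 2) {a : ℕ} (ha : a ∈ charDegrees S) (ha1 : a ≠ 1)
    (hB : 2 * a < B) : False := by
  obtain ⟨c, hc, h⟩ := H.mul ha ha1
  have : Finite (MulAut S) := Finite.of_injective _ (DFunLike.coe_injective (F := MulAut S))
  have h1 : c ≤ 2 := (Nat.le_of_dvd Nat.card_pos hc).trans hout
  have h3 : c * a ≤ 2 * a := Nat.mul_le_mul_right a h1
  omega

/-- Lie type -/
theorem Hyp1.lie (H : Hyp1 N B S) [IsSimpleGroup S] (hna : ¬ IsMulCommutative S) {r : ℕ} (hr : r.Prime)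
    (h : IsLieTypeChar r S) : False := by
  have : Fact r.Prime := ⟨hr⟩
  obtain ⟨θ, h1, h2⟩ := H761.LieExt.lie_ext hna h
  have h3 := H671.FactRows.prime_dvd_of_lie hr h
  have h4 : 0 < (Nat.card S).factorization r := Nat.Prime.factorization_pos_of_dvd hr Nat.card_pos.ne' h3
  have h6 : charDegree (θ : S → ℂ) ≠ 1 := by
    rw [h1]
    exact (Nat.one_lt_pow h4.ne' hr.one_lt).ne'
  refine H.ext θ h6 h2 ?_
  rw [h1]
  exact hr.isPrimePow.pow h4.ne'

theorem Hyp1.alt (H : Hyp1 N B S) [IsSimpleGroup S] (hna : ¬ IsMulCommutative S) {q : ℕ} (hq : q.Prime) (hq3 : 3 ≤ q)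
    (hqN : ¬ q ∣ N) (hB : 2 * q ≤ B) {l : ℕ} (hl : 5 ≤ l) (e : S ≃* alternatingGroup (Fin l)) : False := by
  by_cases h5 : l = 5
  · subst h5
    have : Fact (Nat.Prime 5) := ⟨by norm_num⟩
    obtain ⟨f⟩ := Cfsg.Agent.S0253.psl_zmod5
    exact H.lie hna (r := 5) (by norm_num) (Or.inl ⟨ZMod 5, inferInstance, inferInstance, inferInstance, 2, le_rfl,
      fun _ => by rw [ZMod.card]; norm_num, ⟨e.trans f.symm⟩⟩)
  by_cases h6 : l = 6
  · subst h6
    exact H.lie hna (r := 3) (by norm_num) (H679.isLie_six ⟨e⟩)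
  have h7 : 7 ≤ l := by omega
  have hout : Nat.card (Out S) ≤ 2 := by
    rw [H55.OutGen.card_out_congr e, H489.card_out_alt hl h6]
  have hlq : l < q := by
    by_contra h
    exact hqN (H.pr q hq (by
      rw [Nat.card_congr e.toEquiv]
      exact dvd_card_alt hq hq3 h7 (by omega)))
  have hd : l - 1 ∈ charDegrees S := by
    refine H279.FiveAlt.mem_one ((alternatingGroup (Fin l)).subtype.comp e.toMonoidHom) ?_ h7
    intro σ hσ
    exact ⟨e.symm ⟨σ, hσ⟩, by simp⟩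
  exact H.kill hout hd (by omega) (by omega)

theorem Hyp1.tits (H : Hyp1 N B S) (hB : 2 * 78 < B) (h : Lie.IsoTits S) : False := by
  have hout := H489.card_out_tits h
  obtain ⟨e⟩ := h
  obtain ⟨f⟩ := H707.RowTits.equiv
  exact H.kill hout (a := 78) (mem_of_equiv (e.trans f) H678.DG.Tits.deg_78) (by norm_num) hB

end

/-- the socle is a simple minimal normal subgroup -/
theorem exists_hyp1 {A : Type u} [Group A] [Finite A] {S : Subgroup A} (hS : AlmostSimple A S) {N B : ℕ} {D : Set ℕ}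
    (h : charDegrees A ⊆ D) (hD : ∀ d ∈ D, d ∣ N) (hBD : ∀ d ∈ D, d = 1 ∨ B ≤ d) (hpp : ∀ d ∈ D, ¬ IsPrimePow d) :
    ∃ (T : Type u) (_ : Group T) (_ : Finite T) (_ : IsSimpleGroup T), ¬ IsMulCommutative T ∧ Nonempty (S ≃* T) ∧
      Hyp1 N B T := by
  have hn := hS.normal
  have hs := hS.simple
  have hmin : ∀ M : Subgroup A, M.Normal → M ≤ S → M = ⊥ ∨ M = S := by
    intro M hM hMS
    have h1 : (M.subgroupOf S).Normal := Subgroup.normal_subgroupOf
    rcases IsSimpleGroup.eq_bot_or_eq_top_of_normal _ h1 with h2 | h2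
    · left
      rw [Subgroup.subgroupOf_eq_bot] at h2
      rw [eq_bot_iff]
      exact fun x hx => Subgroup.disjoint_def.1 h2 hx (hMS hx)
    · right
      exact le_antisymm hMS (Subgroup.subgroupOf_eq_top.1 h2)
  have hna' : ¬ ∀ x ∈ S, ∀ y ∈ S, Commute x y := by
    intro hc
    exact hS.nonab ⟨⟨fun a b => Subtype.ext (hc a a.2 b b.2)⟩⟩
  obtain ⟨m, T, iT, F⟩ := exists_mfac S hmin hna'
  have hfin := F.finite
  have hsimp := F.simple
  obtain ⟨e⟩ := F.equiv
  have hm : m = 1 := by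
    have hm0 := F.pos
    by_contra hm1
    -- the kernel of the first coordinate
    have hT : ∃ t : T, t ≠ 1 := by
      by_contra hc
      push Not at hc
      exact F.nonab ⟨⟨fun a b => by rw [hc a, hc b]⟩⟩
    obtain ⟨t, ht⟩ := hT
    let i0 : Fin m := ⟨0, hm0⟩
    let i1 : Fin m := ⟨1, by omega⟩
    have h01 : i1 ≠ i0 := by
      intro hc
      have := congrArg Fin.val hc
      simp [i0, i1] at this
    let φ : S →* T := (Pi.evalMonoidHom (fun _ : Fin m => T) i0).comp e.toMonoidHom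
    rcases IsSimpleGroup.eq_bot_or_eq_top_of_normal φ.ker inferInstance with h2 | h2
    · have h3 : e.symm (Pi.mulSingle i1 t) ∈ φ.ker := by
        rw [MonoidHom.mem_ker]
        show e (e.symm (Pi.mulSingle i1 t)) i0 = 1
        rw [MulEquiv.apply_symm_apply, Pi.mulSingle_eq_of_ne h01.symm]
      rw [h2, Subgroup.mem_bot] at h3
      apply ht
      have h4 := congrFun ((MulEquiv.symm_apply_eq e).1 h3) i1
      rw [map_one, Pi.mulSingle_eq_same] at h4
      exact h4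
    · have h3 : e.symm (Pi.mulSingle i0 t) ∈ φ.ker := by rw [h2]; exact Subgroup.mem_top _
      rw [MonoidHom.mem_ker] at h3
      apply ht
      change e (e.symm (Pi.mulSingle i0 t)) i0 = 1 at h3
      rwa [MulEquiv.apply_symm_apply, Pi.mulSingle_eq_same] at h3
  subst hm
  refine ⟨T, iT, hfin, hsimp, F.nonab, ⟨e.trans (MulEquiv.funUnique (Fin 1) T)⟩, ?_, ?_, ?_⟩
  · intro d hd hd1
    obtain ⟨c, h1, h2⟩ := F.mul hd hd1
    rw [one_mul] at h2
    refine ⟨c, h1, ?_⟩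
    rcases hBD _ (h h2) with h3 | h3
    · exact absurd (Nat.eq_one_of_mul_eq_one_left h3) hd1
    · exact h3
  · intro α hα hψ hpow
    have h1 := (F.ext α hα hψ).1
    rw [pow_one] at h1
    exact hpp _ (h h1) hpow
  · intro p hp hpd
    obtain ⟨d', h1, h2⟩ := F.prime_pow (fun q hq hqd => exists_dvd_degree F.nonab hq hqd) hp hpd
    rw [pow_one] at h2
    exact h2.trans (hD _ (h h1))

/-- **SOC1 without prime power degrees.** -/
theorem soc1_of {X : Type v} [Group X] {N B : ℕ} {D : Set ℕ} (hD : ∀ d ∈ D, d ∣ N) (hBD : ∀ d ∈ D, d = 1 ∨ B ≤ d)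
    (hpp : ∀ d ∈ D, ¬ IsPrimePow d) {q : ℕ} (hq : q.Prime) (hq3 : 3 ≤ q) (hqN : ¬ q ∣ N) (hB : 2 * q ≤ B)
    (hBT : 2 * 78 < B)
    (hspor : ∀ {A : Type u} [Group A] [Finite A] {S : Subgroup A}, AlmostSimple A S → charDegrees A ⊆ D →
      IsSporadicGroup S → Nonempty (S ≃* X)) : Soc1.{u} D X := by
  intro A _ _ S hS h
  obtain ⟨T, _, _, _, hna, ⟨e⟩, H⟩ := exists_hyp1 hS h hD hBD hpp
  rcases H671.FactRows.split (fun X _ _ _ => S0000.result (G := X)) T hna with ⟨l, hl, ⟨f⟩⟩ | ⟨r, hr, h1⟩ | h1 | h1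
  · exact (H.alt hna hq hq3 hqN hB hl f).elim
  · exact (H.lie hna hr h1).elim
  · exact (H.tits hBT h1).elim
  · exact hspor hS h (sporadic_congr e.symm h1)

end Cfsg.Agent.H555.S8
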