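import Cfsg.Agent.H555.S8.Cong
import Cfsg.Agent.H555.S8.SocOne
import Cfsg.Agent.H164.M23.Cent
import Cfsg.Agent.H642.MonoM

/-!
# S4908, the Monster: SOC1 and SOC2 (helper555)

* `data` : the degrees divide the order, are `1` or at least `196883`, and are no prime powers;
* `soc2`, `soc1_of_spor`.
-/

set_option autoImplicit false
set_option maxRecDepth 100000

open Cfsg Subgroup

namespace Cfsg.Agent.H555.S8.Mon

open Cfsg.Agent.H704.S8
open Cfsg.Agent.BpSpor.MBigModel (MG card_M)
open Cfsg.Agent.H691.AN (AlmostSimple)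

universe u v

/-- the order -/
def NM : ℕ := 808017424794512875886459904961710757005754368000000000

/-- its factorization -/
def LM : List (ℕ × ℕ) := [(2, 46), (3, 20), (5, 9), (7, 6), (11, 2), (13, 3), (17, 1), (19, 1), (23, 1), (29, 1),
  (31, 1), (41, 1), (47, 1), (59, 1), (71, 1)]

theorem card_model : Nat.card MG = NM := by
  rw [card_M]
  norm_num [NM]

def ok (d : ℕ) : Bool := okd NM 41 d && okd NM 59 d && okd NM 71 d

theorem chk : ((H348.PPD.Crit.ppDivs LM).all fun d => !ok d) = true := by decide +kernel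

theorem ok_model {d : ℕ} (hd : d ∈ charDegrees MG) : ok d = true := by
  have hfin : Finite MG := BpSpor.MBigModel.finite
  unfold ok
  rw [Bool.and_eq_true, Bool.and_eq_true]
  refine ⟨⟨?_, ?_⟩, ?_⟩
  · exact okd_of (by norm_num) (by norm_num) card_model (by norm_num [NM]) (by norm_num [NM])
      (fun y hy => H164.M23.c41 hy) hd
  · exact okd_of (by norm_num) (by norm_num) card_model (by norm_num [NM]) (by norm_num [NM])
      (fun y hy => H164.M23.c59 hy) hd
  · exact okd_of (by norm_num) (by norm_num) card_model (by norm_num [NM]) (by norm_num [NM])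
      (fun y hy => H164.M23.c71 hy) hd

theorem no_pp_model : ∀ d ∈ charDegrees MG, ¬ IsPrimePow d := by
  have hfin : Finite MG := BpSpor.MBigModel.finite
  refine no_pp card_model LM ?_ ?_ ?_ ok (fun d hd => ok_model hd) chk
  · intro q hq
    fin_cases hq <;> norm_num
  · decide
  · norm_num [LM, NM, H348.PPD.Crit.prodPP]

theorem equiv_model {X : Type v} [Group X] (hX : Spor.IsoM X) : Nonempty (X ≃* MG) := by
  obtain ⟨e⟩ := hX
  obtain ⟨f⟩ := Cfsg.Agent.MonsterP.Equiv.equiv
  exact ⟨e.trans f⟩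

theorem degrees {X : Type v} [Group X] (hX : Spor.IsoM X) : charDegrees X = charDegrees MG := by
  obtain ⟨e⟩ := equiv_model hX
  exact H424.DegTools.charDegrees_congr e

theorem ge_model : ∀ d ∈ charDegrees MG, d = 1 ∨ 196883 ≤ d := by
  intro d hd
  have h := H642.Mono.minDeg_m.congr Cfsg.Agent.MonsterP.Equiv.equiv.some
  obtain ⟨χ, hχ⟩ := hd
  by_cases h1 : (χ : MG → ℂ) = 1
  · left
    rw [← hχ, h1]
    exact Cfsg.Agent.Blocks.Basic.charDegree_of_eq (by simp)
  · right
    rw [← hχ]
    exact h.le _ χ.2 h1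

/-- **the degrees of the Monster** -/
theorem data {X : Type v} [Group X] (hX : Spor.IsoM X) {D : Set ℕ} (hD : Deg 1 X D) :
    (∀ d ∈ D, d ∣ NM) ∧ (∀ d ∈ D, d = 1 ∨ 196883 ≤ d) ∧ ∀ d ∈ D, ¬ IsPrimePow d := by
  have hfin : Finite MG := BpSpor.MBigModel.finite
  rcases hD with rfl | ⟨h, -⟩
  · rw [degrees hX]
    refine ⟨fun d hd => ?_, ge_model, no_pp_model⟩
    rw [← card_model]
    exact H424.DegTools.dvd_card hd
  · norm_num at h

/-- **SOC2, the Monster** -/
theorem soc2 {X : Type v} [Group X] (hX : Spor.IsoM X) {D : Set ℕ} (hD : Deg 1 X D) : Soc2.{u} D := by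
  obtain ⟨h1, h2, h3⟩ := data hX hD
  refine soc2_of (N := NM) (B := 196883) h1 h2 h3 (q := 17) (t7 := 6) (t11 := 2) (t13 := 3) (by norm_num) (by norm_num)
    (by norm_num [NM]) ?_ (by norm_num [NM]) (by norm_num [NM]) (by norm_num [NM]) (by norm_num) (by norm_num)
    (by norm_num) (by norm_num)
  intro p hp
  fin_cases hp <;> norm_num [NM]

/-- **SOC1, the Monster**, from the sporadic case -/
theorem soc1_of_spor {X : Type v} [Group X] (hX : Spor.IsoM X) {D : Set ℕ} (hD : Deg 1 X D)
    (hspor : ∀ {A : Type u} [Group A] [Finite A] {S : Subgroup A}, AlmostSimple A S → charDegrees A ⊆ D →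
      IsSporadicGroup S → Nonempty (S ≃* X)) : Soc1.{u} D X := by
  obtain ⟨h1, h2, h3⟩ := data hX hD
  exact soc1_of (N := NM) (B := 196883) h1 h2 h3 (q := 37) (by norm_num) (by norm_num) (by norm_num [NM]) (by norm_num)
    (by norm_num) hspor

end Cfsg.Agent.H555.S8.Mon
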