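import Cfsg.Agent.H555.S8.Mon
import Cfsg.Agent.H504.AN.SporRows
import Cfsg.Agent.H489.OutSpor

/-!
# S4908, the Monster: SOC1 (helper555)

* **`kill_spor`** : under `Hyp1 N B S` with `2 * 57477 < B` and `43, 67 ∤ N`, a sporadic `S` is the Monster;
* **`Mon.soc1`**.
-/

set_option autoImplicit false
set_option maxRecDepth 100000

open Cfsg

namespace Cfsg.Agent.H555.S8

open Cfsg.Agent.H504.AN Cfsg.Agent.H704.S8
open Cfsg.Agent.H691.AN (AlmostSimple)

universe u v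

section

variable {N B : ℕ} {S : Type u} [Group S] [Finite S]

/-- a small degree of a sporadic group other than `J₄`, `Ly` and the Monster -/
theorem small_degree (h : IsSporadicGroup S) : 43 ∣ Nat.card S ∨ 67 ∣ Nat.card S ∨ Spor.IsoM S ∨
    ∃ a ∈ charDegrees S, a ≠ 1 ∧ a ≤ 57477 := by
  rcases h with h | h | h | h | h | h | h | h | h | h | h | h | h | h | h | h | h | h | h | h | h | h | h | h | h | h
  · -- m11
    obtain ⟨h1, h2, -⟩ := H603.FD.Spor.m11 (UGT.End.MEleven.isM11 h)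
    exact Or.inr (Or.inr (Or.inr ⟨10, h1, by norm_num, by norm_num⟩))
  · obtain ⟨h1, h2, -⟩ := H603.FD.Spor.m12 (H603.FD.Spor.isM12 h)
    exact Or.inr (Or.inr (Or.inr ⟨16, h1, by norm_num, by norm_num⟩))
  · obtain ⟨h1, h2, -⟩ := H603.FD.Spor.m22 (H417.RecogMathieu.isM22 h)
    exact Or.inr (Or.inr (Or.inr ⟨21, h1, by norm_num, by norm_num⟩))
  · obtain ⟨h1, h2, -⟩ := H603.FD.Spor.m23 (H417.RecogMathieu.isM23 h)
    exact Or.inr (Or.inr (Or.inr ⟨45, h2, by norm_num, by norm_num⟩))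
  · obtain ⟨h1, -, h2, -⟩ := H603.FD.Spor.m24 (H417.RecogMathieu.isM24 h)
    exact Or.inr (Or.inr (Or.inr ⟨1035, h1, by norm_num, by norm_num⟩))
  · exact Or.inr (Or.inr (Or.inr ⟨56, (H175.Eight.mem_j1 h 56).2 (by decide), by norm_num, by norm_num⟩))
  · obtain ⟨d63, d36⟩ := H672.SporIM.j2 h
    exact Or.inr (Or.inr (Or.inr ⟨36, d36, by norm_num, by norm_num⟩))
  · -- j3
    have key : 324 ∈ charDegrees S := by
      classical
      have := Cfsg.Agent.Characters.Core.finite_irr (G := S)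
      have := Fintype.ofFinite (IrrCharacter S)
      obtain ⟨V, hV, HV⟩ := H417.JThreeDeg.hyp h
      obtain ⟨χ, hχ⟩ := H315.Eight.RowJ3.deg_324 HV
      refine ⟨χ, ?_⟩
      rw [hV χ] at hχ
      exact_mod_cast hχ
    exact Or.inr (Or.inr (Or.inr ⟨324, key, by norm_num, by norm_num⟩))
  · left
    rw [NotCT.Orders.j4 h]
    norm_num
  · obtain ⟨e⟩ := h
    exact Or.inr (Or.inr (Or.inr ⟨276, mem_of_equiv e H843.IMC.Co1B.hasDeg_276, by norm_num, by norm_num⟩))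
  · obtain ⟨e⟩ := h
    exact Or.inr (Or.inr (Or.inr ⟨23, mem_of_equiv e H843.IMC.Co2A.hasDeg_23, by norm_num, by norm_num⟩))
  · obtain ⟨e⟩ := h
    exact Or.inr (Or.inr (Or.inr ⟨23, mem_of_equiv e H843.IMC.Co3A.hasDeg_23, by norm_num, by norm_num⟩))
  · exact Or.inr (Or.inr (Or.inr ⟨22, mem_of_irr (H765.DS.HSMcL.mcl_22 h), by norm_num, by norm_num⟩))
  · exact Or.inr (Or.inr (Or.inr ⟨22, mem_of_irr (H765.DS.HSMcL.hs_22 h), by norm_num, by norm_num⟩))
  · obtain ⟨h1, h2⟩ := H672.SporIM.suz h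
    exact Or.inr (Or.inr (Or.inr ⟨780, h2, by norm_num, by norm_num⟩))
  · obtain ⟨e⟩ := h
    exact Or.inr (Or.inr (Or.inr ⟨680, mem_of_equiv e H678.DG.HeDegA.deg_680, by norm_num, by norm_num⟩))
  · obtain ⟨e⟩ := h
    obtain ⟨χ, θ, hχ, hθ⟩ := H999.DS.ru_chars
    exact Or.inr (Or.inr (Or.inr ⟨783, mem_of_equiv (e.trans Cfsg.Agent.RuLat.Main.equiv) (mem_of_irr ⟨χ, χ.2, hχ⟩),
      by norm_num, by norm_num⟩))
  · obtain ⟨e⟩ := h
    exact Or.inr (Or.inr (Or.inr ⟨10944, mem_of_equiv e (mem_of_irr' H492.FactsON.exists_10944),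
      by norm_num, by norm_num⟩))
  · right; left
    obtain ⟨e⟩ := h
    rw [NotCT.Orders.ly ⟨e⟩]
    norm_num
  · obtain ⟨h1, h2⟩ := H3.DS.Fi22.exists_deg h
    exact Or.inr (Or.inr (Or.inr ⟨429, mem_of_irr h1, by norm_num, by norm_num⟩))
  · obtain ⟨h1, h2⟩ := H672.SporIM.fi23 h
    exact Or.inr (Or.inr (Or.inr ⟨782, h2, by norm_num, by norm_num⟩))
  · obtain ⟨e⟩ := h
    exact Or.inr (Or.inr (Or.inr ⟨57477, mem_of_equiv e H30.GraphFi24.exists_deg.1, by norm_num, by norm_num⟩))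
  · obtain ⟨e⟩ := h
    exact Or.inr (Or.inr (Or.inr ⟨8910, mem_of_equiv e (mem_of_irr' H492.IMHN.exists_8910),
      by norm_num, by norm_num⟩))
  · obtain ⟨e⟩ := h
    exact Or.inr (Or.inr (Or.inr ⟨30875, mem_of_equiv e (mem_of_irr' H492.FactsTh.exists_30875),
      by norm_num, by norm_num⟩))
  · have h1 : 4371 ∈ charDegrees S := by
      obtain ⟨e⟩ := h
      obtain ⟨θ, h1, -, h2⟩ := (H642.Mono.minDeg_b.congr e.symm).ex
      exact ⟨⟨θ, h1⟩, h2⟩
    exact Or.inr (Or.inr (Or.inr ⟨4371, h1, by norm_num, by norm_num⟩))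
  · exact Or.inr (Or.inr (Or.inl h))

theorem Hyp1.mon (H : Hyp1 N B S) (h43 : ¬ 43 ∣ N) (h67 : ¬ 67 ∣ N) (hB : 2 * 57477 < B) (h : IsSporadicGroup S) :
    Spor.IsoM S := by
  have hout := H489.card_out_sporadic h
  rcases small_degree h with h1 | h1 | h1 | ⟨a, h1, h2, h3⟩
  · exact absurd (H.pr 43 (by norm_num) h1) h43
  · exact absurd (H.pr 67 (by norm_num) h1) h67
  · exact h1
  · exact (H.kill hout h1 h2 (by omega)).elim

end

namespace Mon

/-- **SOC1, the Monster** -/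
theorem soc1 {X : Type v} [Group X] (hX : Spor.IsoM X) {D : Set ℕ} (hD : Deg 1 X D) : Soc1.{u} D X := by
  refine soc1_of_spor hX hD ?_
  intro A _ _ S hS h hs
  obtain ⟨h1, h2, h3⟩ := data hX hD
  obtain ⟨T, _, _, _, hna, ⟨e⟩, H⟩ := exists_hyp1 hS h h1 h2 h3
  have h4 := H.mon (by norm_num [NM]) (by norm_num [NM]) (by norm_num) (sporadic_congr e hs)
  obtain ⟨f⟩ := h4
  obtain ⟨g⟩ := hX
  exact ⟨(e.trans f).trans g.symm⟩

end Mon

end Cfsg.Agent.H555.S8
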