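import Cfsg.Agent.H555.S8.Mon
import Cfsg.Agent.H185.S8.Solv
import Cfsg.Agent.H529.S8.Base
import Cfsg.Agent.H455.OreM.Loc
import Cfsg.Agent.H606.OreM.Small
import Cfsg.Agent.H816.IMM

/-!
# S4908, the Monster: SOLV (helper555)

`NumMin` with `m = 196883 = 47 59 71`: the next degree is at least `21296876` (helper606), `842609326` is a degree, and
`59825262146` is not (modulo 41).
-/

set_option autoImplicit false
set_option maxRecDepth 100000

open Cfsg

namespace Cfsg.Agent.H555.S8.Mon

open Cfsg.Agent.H704.S8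
open Cfsg.Agent.BpSpor.MBigModel (MG card_M)

universe u v

theorem two_model {d : ℕ} (hd : d ∈ charDegrees MG) : d = 1 ∨ d = 196883 ∨ 21296876 ≤ d := by
  obtain ⟨χ, hχ⟩ := hd
  by_cases h1 : (χ : MG → ℂ) = 1
  · left
    rw [← hχ, h1]
    exact Cfsg.Agent.Blocks.Basic.charDegree_of_eq (by simp)
  · right
    rw [← hχ]
    exact H606.OreM.deg_two (Cfsg.Agent.H455.OreM.Deg19.loc H529.S8.base) χ h1

theorem dvd_model {d : ℕ} (hd : d ∈ charDegrees MG) : d ∣ NM := by
  have hfin : Finite MG := BpSpor.MBigModel.finite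
  rw [← card_model]
  exact H424.DegTools.dvd_card hd

theorem not_deg : 59825262146 ∉ charDegrees MG := by
  intro h
  have h1 := ok_model h
  revert h1
  decide +kernel

/-- the prime powers dividing `d₂ ^ 2` -/
theorem pow_small {q a : ℕ} (hq : q.Prime) (ha : 0 < a) (h : q ^ a ∣ 842609326 ^ 2) : q ^ a < 196883 := by
  have h0 : q ∣ 842609326 := hq.dvd_of_dvd_pow ((dvd_pow_self q ha.ne').trans h)
  have h1 : q ∣ 2 * 13 * 13 * 29 * 31 * 47 * 59 := by
    rwa [show 2 * 13 * 13 * 29 * 31 * 47 * 59 = 842609326 by norm_num]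
  have key : ∀ e : ℕ, ¬ q ^ (e + 1) ∣ 842609326 ^ 2 → q ^ e < 196883 → q ^ a < 196883 := by
    intro e he hlt
    have h2 : a ≤ e := by
      by_contra hc
      push Not at hc
      exact he ((pow_dvd_pow q hc).trans h)
    exact (Nat.pow_le_pow_right hq.pos h2).trans_lt hlt
  have hp : ∀ p : ℕ, p.Prime → q ∣ p → q = p := fun p hp h => (Nat.prime_dvd_prime_iff_eq hq hp).1 h
  simp only [hq.dvd_mul] at h1
  rcases h1 with (((((h1 | h1) | h1) | h1) | h1) | h1) | h1
  · obtain rfl := hp 2 (by norm_num) h1
    exact key 2 (by norm_num) (by norm_num)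
  · obtain rfl := hp 13 (by norm_num) h1
    exact key 4 (by norm_num) (by norm_num)
  · obtain rfl := hp 13 (by norm_num) h1
    exact key 4 (by norm_num) (by norm_num)
  · obtain rfl := hp 29 (by norm_num) h1
    exact key 2 (by norm_num) (by norm_num)
  · obtain rfl := hp 31 (by norm_num) h1
    exact key 2 (by norm_num) (by norm_num)
  · obtain rfl := hp 47 (by norm_num) h1
    exact key 2 (by norm_num) (by norm_num)
  · obtain rfl := hp 59 (by norm_num) h1
    exact key 2 (by norm_num) (by norm_num)

/-- the cofactors -/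
theorem cof {k : ℕ} (h1 : k ∣ 842609326) (h2 : k ∣ 196883) : k = 1 ∨ k = 47 ∨ k = 59 ∨ k = 2773 := by
  have h3 : k ∣ 2773 := by
    have := Nat.dvd_gcd h1 h2
    rwa [show Nat.gcd 842609326 196883 = 2773 by norm_num] at this
  have key : ∀ k ∈ List.range 2774, k ∣ 2773 → k = 1 ∨ k = 47 ∨ k = 59 ∨ k = 2773 := by decide +kernel
  exact key k (List.mem_range.2 (Nat.lt_succ_of_le (Nat.le_of_dvd (by norm_num) h3))) h3

theorem kill_model (h2 : 842609326 ∈ charDegrees MG) : Kill (charDegrees MG) 196883 := by
  refine ⟨fun p k hp hk => ?_, fun q a hq ha hmod => ?_⟩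
  · exfalso
    have h47 : 47 ∣ p ^ k := by rw [← hk]; norm_num
    have h59 : 59 ∣ p ^ k := by rw [← hk]; norm_num
    have e1 := (Nat.prime_dvd_prime_iff_eq (by norm_num) hp).1 ((show Nat.Prime 47 by norm_num).dvd_of_dvd_pow h47)
    have e2 := (Nat.prime_dvd_prime_iff_eq (by norm_num) hp).1 ((show Nat.Prime 59 by norm_num).dvd_of_dvd_pow h59)
    omega
  · refine ⟨842609326, h2, fun e he hem => ?_⟩
    constructor
    · intro hD
      have hk := cof (Nat.div_dvd_of_dvd he) hem
      have hpos : 0 < 842609326 / e := Nat.div_pos (Nat.le_of_dvd (by norm_num) he)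
        (Nat.pos_of_dvd_of_pos he (by norm_num))
      have hek : e = 842609326 / (842609326 / e) := by
        rw [Nat.div_div_self he (by norm_num)]
      rcases hk with hk | hk | hk | hk
      · rw [hk] at hek
        norm_num at hek
        subst hek
        have := dvd_model hD
        revert this
        norm_num [NM]
      · rw [hk] at hek
        norm_num at hek
        subst hek
        have := dvd_model hD
        revert this
        norm_num [NM]
      · rw [hk] at hek
        norm_num at hek
        subst hek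
        have := dvd_model hD
        revert this
        norm_num [NM]
      · rw [hk] at hek
        norm_num at hek
        subst hek
        norm_num at hD
        exact not_deg hD
    · intro hdvd
      have h3 := pow_small hq ha (hdvd.trans (pow_dvd_pow_of_dvd he 2))
      have h4 : q ^ a % 196883 = 1 % 196883 := hmod
      rw [Nat.mod_eq_of_lt h3] at h4
      have h5 : 2 ≤ q ^ a := hq.two_le.trans (Nat.le_self_pow ha.ne' q)
      rw [show 1 % 196883 = 1 by norm_num] at h4
      omega

theorem sc_model : SC1 (charDegrees MG) 196883 := by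
  refine SC1.of_coprime (by norm_num) ?_
  intro s c o t hs hc hsm ho1 hlt hso _ ht hD
  have hsm' : s ∣ 196883 := (dvd_pow_self s (by omega)).trans hsm
  have h1 : s ∣ 47 * 59 * 71 := by
    rwa [show 47 * 59 * 71 = 196883 by norm_num]
  have hp : ∀ p : ℕ, p.Prime → s ∣ p → s = p := fun p hp h => (Nat.prime_dvd_prime_iff_eq hs hp).1 h
  have hs3 : s = 47 ∨ s = 59 ∨ s = 71 := by
    simp only [hs.dvd_mul] at h1
    rcases h1 with (h1 | h1) | h1
    · exact Or.inl (hp 47 (by norm_num) h1)
    · exact Or.inr (Or.inl (hp 59 (by norm_num) h1))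
    · exact Or.inr (Or.inr (hp 71 (by norm_num) h1))
  have hc1 : c = 1 := by
    by_contra hc1
    have h2 : s ^ 2 ∣ 196883 := (pow_dvd_pow s (by omega)).trans hsm
    rcases hs3 with rfl | rfl | rfl <;> norm_num at h2
  subst hc1
  rw [pow_one] at ht
  have ht' : t ≤ 196883 / s := Nat.le_of_dvd (by rcases hs3 with rfl | rfl | rfl <;> norm_num) ht
  have hot : o * t < 21296876 := by
    have h2 : o * t ≤ s ^ (2 * 1) * (196883 / s) := Nat.mul_le_mul hlt.le ht'
    refine h2.trans_lt ?_
    rcases hs3 with rfl | rfl | rfl <;> norm_num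
  rcases two_model hD with h | h | h
  · have := Nat.eq_one_of_mul_eq_one_right h
    omega
  · apply hso
    obtain ⟨w, hw⟩ := ht
    have e1 : s * (196883 / s) = 196883 := Nat.mul_div_cancel' hsm'
    have ht0 : 0 < t := by
      rcases Nat.eq_zero_or_pos t with h0 | h0
      · subst h0; simp at h
      · exact h0
    rw [hw, ← h] at e1
    have e2 : s * w * t = o * t := by rw [← e1]; ring
    exact ⟨w, (Nat.eq_of_mul_eq_mul_right ht0 e2).symm⟩
  · omega

/-- **SOLV, the Monster** -/
theorem solv {X : Type v} [Group X] (hX : Spor.IsoM X) {D : Set ℕ} (hD : Deg 1 X D) : Solv.{u} D := by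
  have hfin : Finite MG := BpSpor.MBigModel.finite
  have hd : D = charDegrees MG := by
    rcases hD with h | ⟨h, -⟩
    · rw [h, degrees hX]
    · norm_num at h
  have hfX : Finite X := by
    obtain ⟨e⟩ := equiv_model hX
    exact Finite.of_equiv MG e.symm.toEquiv
  have m1 : 196883 ∈ charDegrees MG := by
    rw [← degrees hX]
    obtain ⟨χ, h1, h2⟩ := H816.IMM.exists_chi_196883 hX
    exact (H424.DegTools.mem_charDegrees (G := X)).2 ⟨χ, h1, by rw [h2]; norm_num⟩
  have m2 : 842609326 ∈ charDegrees MG := by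
    rw [← degrees hX]
    obtain ⟨χ, h1, h2⟩ := H816.IMM.exists_chi_842609326 hX
    exact (H424.DegTools.mem_charDegrees (G := X)).2 ⟨χ, h1, by rw [h2]; norm_num⟩
  subst hd
  have hnum : NumMin (charDegrees MG) :=
    ⟨196883, m1, by norm_num, fun d hd => ge_model d hd, kill_model m2, sc_model⟩
  intro G _ _ hs hG
  exact H185.S8.solv_of_numMin hnum hs hG

end Cfsg.Agent.H555.S8.Mon
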