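import Cfsg.Agent.H707.Odd.Mod
import Cfsg.Agent.H348.PPD.Crit
import Cfsg.Agent.H424.DegTools

/-!
# S4908: degrees modulo an isolated prime; prime power degrees (helper555)

* `okd_of` : `p ∥ |G|`, elements of order `p` self-centralizing: every degree is `0, ± 1, ± e` modulo `p`,
  `e = |G| / p` modulo `p`;
* `no_pp` : no prime power degree, by a finite check.
-/

set_option autoImplicit false

open Cfsg Subgroup

namespace Cfsg.Agent.H555.S8

universe u

variable {G : Type u} [Group G]

/-- `d` is `0, ± 1, ± e` modulo `p`, `e = (n / p) mod p` -/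
def okd (n p d : ℕ) : Bool :=
  d % p == 0 || d % p == 1 || d % p == p - 1 || d % p == (n / p) % p || d % p == p - (n / p) % p

theorem mod_of_int {p d : ℕ} {r : ℕ} (hr : r < p) (h : (d : ℤ) ≡ (r : ℤ) [ZMOD p]) : d % p = r := by
  have h1 : d ≡ r [MOD p] := Int.natCast_modEq_iff.1 h
  rw [Nat.ModEq, Nat.mod_eq_of_lt hr] at h1
  exact h1

theorem mod_of_neg {p d : ℕ} {r : ℕ} (hr : r < p) (hr0 : 0 < r) (h : (d : ℤ) ≡ -(r : ℤ) [ZMOD p]) :
    d % p = p - r := by
  apply mod_of_int (by omega)
  refine h.trans ?_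
  rw [Int.modEq_iff_dvd]
  exact ⟨1, by push_cast [Nat.le_of_lt hr]; ring⟩

theorem okd_of [Finite G] {n p : ℕ} (hp : p.Prime) (hp2 : p ≠ 2) (hn : Nat.card G = n) (h1 : p ∣ n)
    (hsq : ¬ p ^ 2 ∣ n) (hC : ∀ y : G, orderOf y = p → Nat.card (centralizer ({y} : Set G)) = p) {d : ℕ}
    (hd : d ∈ charDegrees G) : okd n p d = true := by
  classical
  have hpF : Fact p.Prime := ⟨hp⟩
  have hpp := hp.two_le
  subst hn
  obtain ⟨y, hy⟩ := exists_prime_orderOf_dvd_card' p h1
  obtain ⟨P, hPy, hP⟩ := H348.PPD.Key.exists_sylow hsq hy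
  have hCP : Nat.card (centralizer ((P : Subgroup G) : Set G)) = p := by
    have h2 : centralizer ((P : Subgroup G) : Set G) = centralizer ({y} : Set G) := by
      rw [hPy, Subgroup.zpowers_eq_closure, Subgroup.centralizer_closure]
    rw [h2]
    exact hC y hy
  obtain ⟨e, he⟩ : ∃ e, (centralizer ((P : Subgroup G) : Set G)).relIndex
      (normalizer ((P : Subgroup G) : Set G)) = e := ⟨_, rfl⟩
  have hle : centralizer ((P : Subgroup G) : Set G) ≤ normalizer ((P : Subgroup G) : Set G) :=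
    Subgroup.centralizer_le_normalizer _
  have hidx : (normalizer ((P : Subgroup G) : Set G)).index * e * p = Nat.card G := by
    have h4 := Subgroup.card_mul_index (centralizer ((P : Subgroup G) : Set G))
    rw [hCP, ← Subgroup.relIndex_mul_index hle, he] at h4
    rw [← h4]
    ring
  have he1 : e ∣ p - 1 := by
    rw [← he]
    exact SmallSimple.BurnsideNC.relIndex_dvd_of_card_eq_prime P hP
  have hep : e < p := by
    have := Nat.le_of_dvd (by omega) he1
    omega
  have he0 : 0 < e := Nat.pos_of_ne_zero (by rintro rfl; have := Nat.eq_zero_of_zero_dvd he1; omega)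
  have hsyl : (normalizer ((P : Subgroup G) : Set G)).index ≡ 1 [MOD p] := by
    have h3 := card_sylow_modEq_one p G
    rwa [P.card_eq_index_normalizer] at h3
  have hmod : (Nat.card G / p) % p = e := by
    have h4 : Nat.card G / p = (normalizer ((P : Subgroup G) : Set G)).index * e := by
      rw [← hidx, Nat.mul_div_cancel _ hp.pos]
    rw [h4]
    have h5 := hsyl.mul_right e
    rw [one_mul, Nat.ModEq, Nat.mod_eq_of_lt hep] at h5
    exact h5
  obtain ⟨χ, hχ⟩ := hd
  have hd1 : (χ : G → ℂ) 1 = d := by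
    rw [← hχ]
    exact Cfsg.Agent.Blocks.Basic.irr_one_eq_charDegree χ.2
  unfold okd
  rw [hmod]
  simp only [Bool.or_eq_true, beq_iff_eq]
  rcases Cfsg.Agent.H707.Odd.degree_mod hp2 P hP hCP he χ hd1 with h | h | h | h | h
  · exact Or.inl (Or.inl (Or.inl (Or.inl (Nat.mod_eq_zero_of_dvd h))))
  · exact Or.inl (Or.inl (Or.inl (Or.inr (mod_of_int (r := 1) (by omega) (by exact_mod_cast h)))))
  · exact Or.inl (Or.inl (Or.inr (mod_of_neg (r := 1) (by omega) (by omega) (by exact_mod_cast h))))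
  · exact Or.inl (Or.inr (mod_of_int hep h))
  · exact Or.inr (mod_of_neg hep he0 h)

/-- a prime power dividing `n = ∏ L` is in the list -/
theorem no_pp [Finite G] {n : ℕ} (hn : Nat.card G = n) (L : List (ℕ × ℕ)) (hL : ∀ q ∈ L, q.1.Prime)
    (hP : L.Pairwise (fun a b => a.1 ≠ b.1)) (hprod : H348.PPD.Crit.prodPP L = n) (ok : ℕ → Bool)
    (hok : ∀ d ∈ charDegrees G, ok d = true) (hchk : ((H348.PPD.Crit.ppDivs L).all fun d => !ok d) = true) :
    ∀ d ∈ charDegrees G, ¬ IsPrimePow d := by
  intro d hd hpp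
  have h1 : d ∣ n := by
    rw [← hn]
    exact H424.DegTools.dvd_card hd
  rw [List.all_eq_true] at hchk
  have h2 := hchk d (H348.PPD.Crit.mem_ppDivs hpp hL hP (by rw [hprod]; exact h1))
  rw [hok d hd] at h2
  exact absurd h2 (by decide)

end Cfsg.Agent.H555.S8
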