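import Cfsg.Agent.H704.S8.Defs
import Cfsg.Agent.H504.AN.MinDeg
import Cfsg.Agent.H671.FactRows
import Cfsg.Agent.H489.OutSpor
import Cfsg.Agent.H761.LieExt
import Cfsg.Agent.H679.LieAlt
import Cfsg.Agent.H279.FiveAlt
import Cfsg.Agent.H603.FD.Spor
import Cfsg.Agent.H3.DS.Fi22Row
import Cfsg.Agent.H672.SporIM.RankRows
import Cfsg.Agent.H765.DS.HSMcL
import Cfsg.Agent.H678.DG.Tits
import Cfsg.Agent.H707.RowTits
import Cfsg.Agent.NotCT.Orders
import Cfsg.Agent.H417.RecogMathieu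
import Cfsg.Agent.UGT.End.MEleven
import Cfsg.Agent.S0253
import Cfsg.Agent.S0000
import Cfsg.Agent.S4760

/-!
# S4908: minimal normal subgroups are simple, without prime power degrees (helper555)

* **`soc2_of`** : `D` a set of divisors of `N` without prime powers, all `≠ 1` at least `B`; `q` a prime with `q ^ 2 ∤ N`,
  `q ≤ 17`, `7 ^ (t + 1) ∤ N`, `B` large against `t` : `Soc2 D`.
-/

set_option autoImplicit false

open Cfsg

namespace Cfsg.Agent.H555.S8

open Cfsg.Agent.H504.AN Cfsg.Agent.H704.S8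

universe u

theorem exists_dvd_degree {S : Type u} [Group S] [Finite S] [IsSimpleGroup S] (hna : ¬ IsMulCommutative S) {p : ℕ}
    (hp : p.Prime) (hd : p ∣ Nat.card S) : ∃ d ∈ charDegrees S, p ∣ d := by
  have : Fact p.Prime := ⟨hp⟩
  by_contra hcon
  push Not at hcon
  obtain ⟨P⟩ := (inferInstance : Nonempty (Sylow p S))
  have h1 := (S4760.result p P).2 fun χ hχ => hcon _ ⟨χ, rfl⟩ hχ
  obtain ⟨h2, h3⟩ := h1
  rcases IsSimpleGroup.eq_bot_or_eq_top_of_normal (P : Subgroup S) h2 with h | h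
  · have h4 : p ∣ Nat.card (P : Subgroup S) := P.dvd_card_of_dvd_card hd
    rw [h, Subgroup.card_bot] at h4
    exact hp.one_lt.ne' (Nat.dvd_one.1 h4)
  · apply hna
    refine ⟨⟨fun a b => ?_⟩⟩
    have ha : a ∈ (P : Subgroup S) := by rw [h]; exact Subgroup.mem_top a
    have hb : b ∈ (P : Subgroup S) := by rw [h]; exact Subgroup.mem_top b
    exact congrArg Subtype.val (h3.is_comm.comm (⟨a, ha⟩ : (P : Subgroup S)) ⟨b, hb⟩)

/-- what is known of `k ≥ 2` factors `S` -/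
structure Hyp (N B k : ℕ) (S : Type u) [Group S] : Prop where
  two : 2 ≤ k
  mul : ∀ {d : ℕ}, d ∈ charDegrees S → d ≠ 1 → ∃ c : ℕ, c ∣ Nat.card (Out S) ∧ B ≤ k * (c * d)
  ext : ∀ α : IrrCharacter S, charDegree (α : S → ℂ) ≠ 1 →
    (∃ ψ : IrrCharacter (MulAut S), ∀ s : S, (ψ : MulAut S → ℂ) (MulAut.conj s) = (α : S → ℂ) s) →
    ¬ IsPrimePow (charDegree (α : S → ℂ) ^ k)
  pr : ∀ p : ℕ, p.Prime → p ∣ Nat.card S → p ^ k ∣ N

section

variable {N B k : ℕ} {S : Type u} [Group S] [Finite S]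

theorem Hyp.lt (H : Hyp N B k S) {p t : ℕ} (hp : p.Prime) (hpS : p ∣ Nat.card S) (ht : ¬ p ^ (t + 1) ∣ N) : k ≤ t := by
  by_contra h
  exact ht ((pow_dvd_pow p (by omega)).trans (H.pr p hp hpS))

theorem Hyp.dead (H : Hyp N B k S) {p : ℕ} (hp : p.Prime) (hpS : p ∣ Nat.card S) (ht : ¬ p ^ 2 ∣ N) : False := by
  have h1 := H.lt (t := 1) hp hpS ht
  have h2 := H.two
  omega

theorem Hyp.kill (H : Hyp N B k S) (hout : Nat.card (Out S) ≤ 2) {a p t : ℕ} (hp : p.Prime) (hpS : p ∣ Nat.card S)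
    (ht : ¬ p ^ (t + 1) ∣ N) (ha : a ∈ charDegrees S) (ha1 : a ≠ 1) (hB : t * (2 * a) < B) : False := by
  obtain ⟨c, hc, h⟩ := H.mul ha ha1
  have : Finite (MulAut S) := Finite.of_injective _ (DFunLike.coe_injective (F := MulAut S))
  have h1 : c ≤ 2 := (Nat.le_of_dvd Nat.card_pos hc).trans hout
  have h2 := H.lt hp hpS ht
  have h3 : k * (c * a) ≤ t * (2 * a) := Nat.mul_le_mul h2 (Nat.mul_le_mul_right a h1)
  omega

/-- Lie type -/
theorem Hyp.lie (H : Hyp N B k S) [IsSimpleGroup S] (hna : ¬ IsMulCommutative S) {r : ℕ} (hr : r.Prime)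
    (h : IsLieTypeChar r S) : False := by
  have : Fact r.Prime := ⟨hr⟩
  obtain ⟨θ, h1, h2⟩ := H761.LieExt.lie_ext hna h
  have h3 := H671.FactRows.prime_dvd_of_lie hr h
  have h4 : 0 < (Nat.card S).factorization r := Nat.Prime.factorization_pos_of_dvd hr Nat.card_pos.ne' h3
  have h6 : charDegree (θ : S → ℂ) ≠ 1 := by
    rw [h1]
    exact (Nat.one_lt_pow h4.ne' hr.one_lt).ne'
  refine H.ext θ h6 h2 ?_
  rw [h1, ← pow_mul]
  exact hr.isPrimePow.pow (Nat.mul_pos h4 (by have := H.two; omega)).ne'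

theorem dvd_card_alt {l p : ℕ} (hp : p.Prime) (h3 : 3 ≤ p) (hl : 7 ≤ l) (hpl : p ≤ l) :
    p ∣ Nat.card (alternatingGroup (Fin l)) := by
  have : Nontrivial (Fin l) := Fin.nontrivial_iff_two_le.2 (by omega)
  have h1 := two_mul_nat_card_alternatingGroup (α := Fin l)
  rw [Nat.card_perm, Nat.card_fin] at h1
  have h2 : p ∣ 2 * Nat.card (alternatingGroup (Fin l)) := by
    rw [h1]
    exact Nat.dvd_factorial hp.pos hpl
  rcases (Nat.Prime.dvd_mul hp).1 h2 with h | h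
  · have := Nat.le_of_dvd (by norm_num) h
    omega
  · exact h

theorem Hyp.alt (H : Hyp N B k S) [IsSimpleGroup S] (hna : ¬ IsMulCommutative S) {q t : ℕ} (hq : q.Prime) (hq3 : 3 ≤ q)
    (hqN : ¬ q ^ 2 ∣ N) (ht : ¬ 7 ^ (t + 1) ∣ N) (hB : t * (2 * q) < B) {l : ℕ} (hl : 5 ≤ l)
    (e : S ≃* alternatingGroup (Fin l)) : False := by
  by_cases h5 : l = 5
  · subst h5
    have : Fact (Nat.Prime 5) := ⟨by norm_num⟩
    obtain ⟨f⟩ := Cfsg.Agent.S0253.psl_zmod5
    exact H.lie hna (r := 5) (by norm_num) (Or.inl ⟨ZMod 5, inferInstance, inferInstance, inferInstance, 2, le_rfl,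
      fun _ => by rw [ZMod.card]; norm_num, ⟨e.trans f.symm⟩⟩)
  by_cases h6 : l = 6
  · subst h6
    exact H.lie hna (r := 3) (by norm_num) (H679.isLie_six ⟨e⟩)
  have h7 : 7 ≤ l := by omega
  have hout : Nat.card (Out S) ≤ 2 := by
    rw [H55.OutGen.card_out_congr e, H489.card_out_alt hl h6]
  have hcd : ∀ p : ℕ, p.Prime → 3 ≤ p → p ≤ l → p ∣ Nat.card S := fun p hp h3 hpl => by
    rw [Nat.card_congr e.toEquiv]
    exact dvd_card_alt hp h3 h7 hpl
  have hlq : l < q := by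
    by_contra h
    exact H.dead hq (hcd q hq hq3 (by omega)) hqN
  have hd : l - 1 ∈ charDegrees S := by
    refine H279.FiveAlt.mem_one ((alternatingGroup (Fin l)).subtype.comp e.toMonoidHom) ?_ h7
    intro σ hσ
    exact ⟨e.symm ⟨σ, hσ⟩, by simp⟩
  refine H.kill hout (p := 7) (t := t) (by norm_num) (hcd 7 (by norm_num) (by norm_num) h7) ht hd (by omega) ?_
  refine lt_of_le_of_lt ?_ hB
  exact Nat.mul_le_mul_left _ (by omega)

theorem mem_of_irr {K : Type*} [Group K] {m : ℕ} (h : ∃ ψ : K → ℂ, IsIrrCharacter K ψ ∧ ψ 1 = ((m : ℕ) : ℂ)) :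
    m ∈ charDegrees K := H424.DegTools.mem_charDegrees.2 h

theorem mem_of_equiv {K T : Type*} [Group K] [Group T] (e : K ≃* T) {m : ℕ} (h : m ∈ charDegrees T) :
    m ∈ charDegrees K := H424.DegTools.charDegrees_of_surjective e.toMonoidHom e.surjective h

/-- the sporadic groups -/
theorem Hyp.spor (H : Hyp N B k S) (hs : ∀ p ∈ [17, 19, 23, 29, 31, 37, 43, 47, 59, 67, 71], ¬ p ^ 2 ∣ N)
    {t7 t11 t13 : ℕ} (h7 : ¬ 7 ^ (t7 + 1) ∣ N) (h11 : ¬ 11 ^ (t11 + 1) ∣ N) (h13 : ¬ 13 ^ (t13 + 1) ∣ N)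
    (hB7 : t7 * (2 * 36) < B) (hB11 : t11 * (2 * 22) < B) (hB13 : t13 * (2 * 780) < B)
    (h : IsSporadicGroup S) : False := by
  have hout := H489.card_out_sporadic h
  rcases h with h | h | h | h | h | h | h | h | h | h | h | h | h | h | h | h | h | h | h | h | h | h | h | h | h | h
  · exact H.kill hout (p := 11) (a := 10) (by norm_num) (by rw [NotCT.Orders.m11 h]; norm_num) h11
      (H603.FD.Spor.m11 (UGT.End.MEleven.isM11 h)).1 (by norm_num) (lt_of_le_of_lt (Nat.mul_le_mul_left _ (by norm_num)) hB11)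
  · exact H.kill hout (p := 11) (a := 16) (by norm_num) (by rw [NotCT.Orders.m12 h]; norm_num) h11
      (H603.FD.Spor.m12 (H603.FD.Spor.isM12 h)).1 (by norm_num) (lt_of_le_of_lt (Nat.mul_le_mul_left _ (by norm_num)) hB11)
  · exact H.kill hout (p := 11) (a := 21) (by norm_num) (by rw [NotCT.Orders.m22 h]; norm_num) h11
      (H603.FD.Spor.m22 (H417.RecogMathieu.isM22 h)).1 (by norm_num)
      (lt_of_le_of_lt (Nat.mul_le_mul_left _ (by norm_num)) hB11)
  · exact H.dead (p := 23) (by norm_num) (by rw [NotCT.Orders.m23 h]; norm_num) (hs 23 (by simp))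
  · exact H.dead (p := 23) (by norm_num) (by rw [NotCT.Orders.m24 h]; norm_num) (hs 23 (by simp))
  · exact H.dead (p := 19) (by norm_num) (by rw [NotCT.Orders.j1 h]; norm_num) (hs 19 (by simp))
  · exact H.kill hout (p := 7) (a := 36) (by norm_num) (by rw [NotCT.Orders.j2 h]; norm_num) h7
      (H672.SporIM.j2 h).2 (by norm_num) hB7
  · exact H.dead (p := 19) (by norm_num) (by rw [NotCT.Orders.j3 h]; norm_num) (hs 19 (by simp))
  · exact H.dead (p := 43) (by norm_num) (by rw [NotCT.Orders.j4 h]; norm_num) (hs 43 (by simp))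
  · exact H.dead (p := 23) (by norm_num) (by rw [NotCT.Orders.co1 h]; norm_num) (hs 23 (by simp))
  · exact H.dead (p := 23) (by norm_num) (by rw [NotCT.Orders.co2 h]; norm_num) (hs 23 (by simp))
  · exact H.dead (p := 23) (by norm_num) (by rw [NotCT.Orders.co3 h]; norm_num) (hs 23 (by simp))
  · exact H.kill hout (p := 11) (a := 22) (by norm_num) (by rw [NotCT.Orders.mcl h]; norm_num) h11
      (mem_of_irr (H765.DS.HSMcL.mcl_22 h)) (by norm_num) hB11
  · exact H.kill hout (p := 11) (a := 22) (by norm_num) (by rw [NotCT.Orders.hs h]; norm_num) h11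
      (mem_of_irr (H765.DS.HSMcL.hs_22 h)) (by norm_num) hB11
  · exact H.kill hout (p := 13) (a := 780) (by norm_num) (by rw [NotCT.Orders.suz h]; norm_num) h13
      (H672.SporIM.suz h).2 (by norm_num) hB13
  · exact H.dead (p := 17) (by norm_num) (by rw [NotCT.Orders.he h]; norm_num) (hs 17 (by simp))
  · exact H.dead (p := 29) (by norm_num) (by rw [NotCT.Orders.ru h]; norm_num) (hs 29 (by simp))
  · exact H.dead (p := 31) (by norm_num) (by rw [NotCT.Orders.on h]; norm_num) (hs 31 (by simp))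
  · exact H.dead (p := 67) (by norm_num) (by rw [NotCT.Orders.ly h]; norm_num) (hs 67 (by simp))
  · exact H.kill hout (p := 13) (a := 429) (by norm_num) (by rw [NotCT.Orders.fi22 h]; norm_num) h13
      (mem_of_irr (H3.DS.Fi22.exists_deg h).1) (by norm_num) (lt_of_le_of_lt (Nat.mul_le_mul_left _ (by norm_num)) hB13)
  · exact H.dead (p := 23) (by norm_num) (by rw [NotCT.Orders.fi23 h]; norm_num) (hs 23 (by simp))
  · exact H.dead (p := 29) (by norm_num) (by rw [NotCT.Orders.fi24 h]; norm_num) (hs 29 (by simp))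
  · exact H.dead (p := 19) (by norm_num) (by rw [NotCT.Orders.hn h]; norm_num) (hs 19 (by simp))
  · exact H.dead (p := 31) (by norm_num) (by rw [NotCT.Orders.th h]; norm_num) (hs 31 (by simp))
  · exact H.dead (p := 47) (by norm_num) (by rw [NotCT.Orders.b h]; norm_num) (hs 47 (by simp))
  · exact H.dead (p := 71) (by norm_num) (by rw [NotCT.Orders.m h]; norm_num) (hs 71 (by simp))

theorem Hyp.tits (H : Hyp N B k S) {t13 : ℕ} (h13 : ¬ 13 ^ (t13 + 1) ∣ N) (hB13 : t13 * (2 * 780) < B)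
    (h : Lie.IsoTits S) : False := by
  have hout := H489.card_out_tits h
  have hc := NotCT.Orders.tits h
  obtain ⟨e⟩ := h
  obtain ⟨f⟩ := H707.RowTits.equiv
  exact H.kill hout (p := 13) (a := 78) (by norm_num) (by rw [hc]; norm_num) h13
    (mem_of_equiv (e.trans f) H678.DG.Tits.deg_78) (by norm_num) (lt_of_le_of_lt (Nat.mul_le_mul_left _ (by norm_num)) hB13)

end

/-- **SOC2 without prime power degrees.** -/
theorem soc2_of {N B : ℕ} {D : Set ℕ} (hD : ∀ d ∈ D, d ∣ N) (hBD : ∀ d ∈ D, d = 1 ∨ B ≤ d)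
    (hpp : ∀ d ∈ D, ¬ IsPrimePow d) {q : ℕ} (hq : q.Prime) (hq3 : 3 ≤ q) (hqN : ¬ q ^ 2 ∣ N)
    (hs : ∀ p ∈ [17, 19, 23, 29, 31, 37, 43, 47, 59, 67, 71], ¬ p ^ 2 ∣ N)
    {t7 t11 t13 : ℕ} (h7 : ¬ 7 ^ (t7 + 1) ∣ N) (h11 : ¬ 11 ^ (t11 + 1) ∣ N) (h13 : ¬ 13 ^ (t13 + 1) ∣ N)
    (hB : t7 * (2 * q) < B) (hB7 : t7 * (2 * 36) < B) (hB11 : t11 * (2 * 22) < B) (hB13 : t13 * (2 * 780) < B) :
    Soc2.{u} D := by
  intro Y _ _ h W hW hne hmin hna
  have hna' : ¬ ∀ x ∈ W, ∀ y ∈ W, Commute x y := by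
    intro hc
    exact hna ⟨⟨fun a b => Subtype.ext (hc a a.2 b b.2)⟩⟩
  obtain ⟨m, S, iS, F⟩ := exists_mfac W hmin hna'
  have hfin := F.finite
  have hsimp := F.simple
  rcases Nat.lt_or_ge m 2 with hm | hm
  · have hm1 : m = 1 := by have := F.pos; omega
    subst hm1
    exact F.simple_of_one
  exfalso
  have hmul1 : ∀ {c d : ℕ}, m * (c * d) ∈ D → B ≤ m * (c * d) := fun {c d} h1 => by
    rcases hBD _ h1 with h2 | h2
    · have := Nat.eq_one_of_mul_eq_one_right h2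
      omega
    · exact h2
  have H : Hyp N B m S :=
    { two := hm
      mul := fun {d} hd hd1 => by
        obtain ⟨c, h1, h2⟩ := F.mul hd hd1
        exact ⟨c, h1, hmul1 (h h2)⟩
      ext := fun α hα hψ hpow => hpp _ (h (F.ext α hα hψ).1) hpow
      pr := fun p hp hpd => by
        obtain ⟨d', h1, h2⟩ := F.prime_pow (fun q hq hqd => exists_dvd_degree F.nonab hq hqd) hp hpd
        exact h2.trans (hD _ (h h1)) }
  rcases H671.FactRows.split (fun X _ _ _ => S0000.result (G := X)) S F.nonab with ⟨l, hl, ⟨e⟩⟩ | ⟨r, hr, h1⟩ | h1 | h1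
  · exact H.alt F.nonab hq hq3 hqN h7 hB hl e
  · exact H.lie F.nonab hr h1
  · exact H.tits h13 hB13 h1
  · exact H.spor hs h7 h11 h13 hB7 hB11 hB13 h1

end Cfsg.Agent.H555.S8
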